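import Groth.Prelude.Def_FlatCA
import Groth.Agent.FlatCrit65.FlatLocus.Module
import Groth.Agent.FlatCrit65.FlatLocus.Kernels

/-!
# Flatness above the closed points under change of the source
-/

universe u

noncomputable section

open TensorProduct

namespace Groth.Agent.FlatCrit65

/-- Two field extensions have a common extension. -/
theorem exists_common_field {k K L : Type u} [Field k] [Field K] [Field L] (a : k →+* K) (b : k →+* L) :
    ∃ (F : Type u) (_ : Field F) (i : K →+* F) (j : L →+* F), i.comp a = j.comp b := by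
  let _ : Algebra k K := a.toAlgebra
  let _ : Algebra k L := b.toAlgebra
  obtain ⟨m, hm⟩ := Ideal.exists_maximal (K ⊗[k] L)
  refine ⟨(K ⊗[k] L) ⧸ m, Ideal.Quotient.field m,
    (Ideal.Quotient.mk m).comp Algebra.TensorProduct.includeLeftRingHom,
    (Ideal.Quotient.mk m).comp (Algebra.TensorProduct.includeRight (R := k) (A := K) (B := L)).toRingHom,
    RingHom.ext fun x => congrArg (Ideal.Quotient.mk m) ?_⟩
  exact ((Algebra.TensorProduct.includeLeft (R := k) (S := k) (A := K) (B := L)).commutes x).trans
    ((Algebra.TensorProduct.includeRight (R := k) (A := K) (B := L)).commutes x).symm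

variable {A' B' C' : Type u} [CommRing A'] [CommRing B'] [CommRing C'] [Algebra A' B'] [Algebra B' C']
  [Algebra A' C'] [IsScalarTower A' B' C']
  {M : Type u} [AddCommGroup M] [Module B' M] [Module A' M] [IsScalarTower A' B' M]

theorem lTensor_subtype_assoc (I : Ideal A') (w : (C' ⊗[B'] M) ⊗[A'] I) :
    AlgebraTensorModule.assoc A' B' C' C' M A' (I.subtype.lTensor (C' ⊗[B'] M) w) =
      (AlgebraTensorModule.lTensor B' M I.subtype).lTensor C' (AlgebraTensorModule.assoc A' B' C' C' M I w) := by
  induction w using TensorProduct.induction_on with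
  | zero => simp only [map_zero]
  | tmul x c =>
    induction x using TensorProduct.induction_on with
    | zero => simp only [zero_tmul, map_zero]
    | tmul a b => rfl
    | add x y hx hy => simp only [add_tmul, map_add, hx, hy]
  | add x y hx hy => simp only [map_add, hx, hy]

/-- Flatness at a point below gives flatness at a point above. -/
theorem flat_localized_tensor_of_flat [Module.Flat B' C'] (q : Ideal C') [q.IsPrime]
    (h : Module.Flat A' (LocalizedModule (q.comap (algebraMap B' C')).primeCompl M)) :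
    Module.Flat A' (LocalizedModule q.primeCompl (C' ⊗[B'] M)) := by
  refine (flat_localized_iff_kernels q).mpr fun I z hz => ?_
  let φ := AlgebraTensorModule.lTensor B' M I.subtype
  let e := AlgebraTensorModule.assoc A' B' C' C' M I
  have hw : φ.lTensor C' (e z) = 0 := by
    rw [← lTensor_subtype_assoc, hz, map_zero]
  obtain ⟨k, hk⟩ := (Module.Flat.lTensor_exact C' φ.exact_subtype_ker_map (e z)).mp hw
  suffices ∀ k : C' ⊗[B'] LinearMap.ker φ, ∃ s ∉ q, s • (LinearMap.ker φ).subtype.lTensor C' k = 0 by
    obtain ⟨s, hs, hsk⟩ := this k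
    exact ⟨s, hs, e.map_eq_zero_iff.mp (by rw [map_smul, ← hk, hsk])⟩
  intro k
  induction k using TensorProduct.induction_on with
  | zero => exact ⟨1, q.primeCompl.one_mem, by rw [map_zero, smul_zero]⟩
  | tmul c v =>
    obtain ⟨s, hs, hsv⟩ := (flat_localized_iff_kernels (q.comap (algebraMap B' C'))).mp h I v.1 v.2
    refine ⟨algebraMap B' C' s, hs, ?_⟩
    rw [LinearMap.lTensor_tmul, algebraMap_smul, ← tmul_smul, Submodule.coe_subtype, hsv, tmul_zero]
  | add a b ha hb =>
    obtain ⟨s, hs, hsa⟩ := ha
    obtain ⟨t, ht, htb⟩ := hb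
    refine ⟨s * t, q.primeCompl.mul_mem hs ht, ?_⟩
    rw [map_add, smul_add, mul_comm s t, mul_smul, hsa, smul_zero, zero_add, mul_comm t s, mul_smul, htb, smul_zero]

/-- Flatness at a point above gives flatness at the point below. -/
theorem flat_localized_of_flat_tensor [Module.Flat B' C'] (q : Ideal C') [q.IsPrime]
    (h : Module.Flat A' (LocalizedModule q.primeCompl (C' ⊗[B'] M))) :
    Module.Flat A' (LocalizedModule (q.comap (algebraMap B' C')).primeCompl M) := by
  refine (flat_localized_iff_kernels _).mpr fun I z hz => ?_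
  let e := AlgebraTensorModule.assoc A' B' C' C' M I
  have hker : I.subtype.lTensor (C' ⊗[B'] M) (e.symm ((1 : C') ⊗ₜ[B'] z)) = 0 := by
    apply (AlgebraTensorModule.assoc A' B' C' C' M A').injective
    rw [lTensor_subtype_assoc, map_zero, e.apply_symm_apply, LinearMap.lTensor_tmul]
    show (1 : C') ⊗ₜ[B'] (I.subtype.lTensor M z) = 0
    rw [hz, tmul_zero]
  obtain ⟨t, ht, htz⟩ := (flat_localized_iff_kernels q).mp h I _ hker
  by_contra hne
  push Not at hne
  let J : Ideal B' := LinearMap.ker (LinearMap.toSpanSingleton B' (M ⊗[A'] I) z)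
  let ψ : B' ⧸ J →ₗ[B'] M ⊗[A'] I := Submodule.liftQ J (LinearMap.toSpanSingleton B' _ z) le_rfl
  have hψ : Function.Injective ψ := by
    rw [injective_iff_map_eq_zero]
    intro a ha
    obtain ⟨a, rfl⟩ := Submodule.mkQ_surjective J a
    exact (Submodule.Quotient.mk_eq_zero J).mpr ha
  have ht0 : t ⊗ₜ[B'] (Ideal.Quotient.mk J 1) = (0 : C' ⊗[B'] (B' ⧸ J)) := by
    apply Module.Flat.lTensor_preserves_injective_linearMap (M := C') ψ hψ
    rw [map_zero, LinearMap.lTensor_tmul, show ψ (Ideal.Quotient.mk J 1) = z from one_smul B' z]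
    have := congrArg e htz
    rwa [map_smul, e.apply_symm_apply, map_zero, smul_tmul', smul_eq_mul, mul_one] at this
  have htJ : t ∈ J • (⊤ : Submodule B' C') := by
    have := congrArg (TensorProduct.tensorQuotEquivQuotSMul C' J) ht0
    rw [TensorProduct.tensorQuotEquivQuotSMul_tmul_mk, map_zero, one_smul] at this
    exact (Submodule.Quotient.mk_eq_zero _).mp this
  rw [Ideal.smul_top_eq_map] at htJ
  refine ht (?_ : t ∈ q)
  refine Ideal.map_le_iff_le_comap.mpr (fun s hs => ?_) htJ
  by_contra hsq
  exact hne s hsq hs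

variable {B C : Type u} [CommRing B] [IsLocalRing B] [CommRing C] [IsLocalRing C] [Algebra B C]
  [IsLocalHom (algebraMap B C)] [Algebra B B'] [Algebra C C'] [Algebra B C'] [IsScalarTower B B' C']
  [IsScalarTower B C C'] [Algebra.IsPushout B C B' C']

omit [Algebra A' B'] [Algebra A' C'] [IsScalarTower A' B' C'] [CommRing A'] in
/-- Above a point over the closed point of `B` there is one over the closed point of `C`. -/
theorem exists_closed_point_above (q₀ : Ideal B') [q₀.IsPrime]
    (hq₀ : (IsLocalRing.maximalIdeal B).map (algebraMap B B') ≤ q₀) :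
    ∃ (q : Ideal C') (_ : q.IsPrime), q.comap (algebraMap B' C') = q₀ ∧
      (IsLocalRing.maximalIdeal C).map (algebraMap C C') ≤ q := by
  let kB := IsLocalRing.ResidueField B
  let kC := IsLocalRing.ResidueField C
  let k₀ := q₀.ResidueField
  let ρ : kB →+* k₀ := Ideal.Quotient.lift (IsLocalRing.maximalIdeal B)
    ((algebraMap B' k₀).comp (algebraMap B B')) fun b hb =>
      Ideal.algebraMap_residueField_eq_zero.mpr (hq₀ (Ideal.mem_map_of_mem _ hb))
  obtain ⟨T, _, i₁, i₂, hi⟩ := exists_common_field (IsLocalRing.ResidueField.map (algebraMap B C)) ρ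
  let f : C →+* T := i₁.comp (IsLocalRing.residue C)
  let g : B' →+* T := i₂.comp (algebraMap B' k₀)
  let _ : Algebra B T := (f.comp (algebraMap B C)).toAlgebra
  have hg : ∀ b, g (algebraMap B B' b) = algebraMap B T b := fun b =>
    (RingHom.congr_fun hi (IsLocalRing.residue B b)).symm
  let Φ : C' →ₐ[B] T := Algebra.pushoutDesc C' ⟨f, fun _ => rfl⟩ ⟨g, hg⟩ fun _ _ => mul_comm _ _
  refine ⟨RingHom.ker Φ.toRingHom, RingHom.ker_isPrime _, ?_, ?_⟩
  · ext x
    rw [Ideal.mem_comap, RingHom.mem_ker]
    show Φ (algebraMap B' C' x) = 0 ↔ _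
    rw [Algebra.pushoutDesc_right]
    exact (map_eq_zero_iff i₂ i₂.injective).trans Ideal.algebraMap_residueField_eq_zero
  · rw [Ideal.map_le_iff_le_comap]
    intro c hc
    rw [Ideal.mem_comap, RingHom.mem_ker]
    show Φ (algebraMap C C' c) = 0
    rw [Algebra.pushoutDesc_left]
    show i₁ (IsLocalRing.residue C c) = 0
    rw [(IsLocalRing.residue_eq_zero_iff c).mpr hc, map_zero]

end Groth.Agent.FlatCrit65
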