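import Groth.Prelude.Def_FlatCA
import Groth.Agent.FlatMor67.PurePush
import Mathlib.RingTheory.AdicCompletion.Basic
import Mathlib.RingTheory.Filtration
import Mathlib.RingTheory.Ideal.AssociatedPrime.Finiteness
import Mathlib.RingTheory.TensorProduct.DirectLimitFG

/-!
# Universal injectivity of the map to the completion
-/

universe u

noncomputable section

open TensorProduct

namespace Groth.Agent.FlatCrit65

variable {R S : Type u} [CommRing R] [CommRing S] [Algebra R S] (I : Ideal R)
  (N : Type u) [AddCommGroup N] [Module S N] [Module R N] [IsScalarTower R S N]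

theorem restrict_pow_smul_le {W : Type u} [AddCommGroup W] [Module S W] [Module R W] [IsScalarTower R S W]
    (n : ℕ) {x : W} (hx : x ∈ I ^ n • (⊤ : Submodule R W)) :
    x ∈ (I.map (algebraMap R S)) ^ n • (⊤ : Submodule S W) := by
  refine Submodule.smul_induction_on hx (fun a ha m _ => ?_) fun u v hu hv => add_mem hu hv
  rw [← algebraMap_smul S a m, ← Ideal.map_pow]
  exact Submodule.smul_mem_smul (Ideal.mem_map_of_mem _ ha) trivial

/-- An element of `N ⊗ Q` which dies in all the reductions is zero. -/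
theorem eq_zero_of_mem_iInf [IsNoetherianRing S] [Module.Finite S N] {Q : Type u} [AddCommGroup Q]
    [Module R Q] [Module.Finite R Q]
    (h : ∀ q ∈ associatedPrimes S (N ⊗[R] Q), I.map (algebraMap R S) ⊔ q ≠ ⊤)
    (x : N ⊗[R] Q) (hx : ∀ n : ℕ, x ∈ I ^ n • (⊤ : Submodule R (N ⊗[R] Q))) : x = 0 := by
  by_contra hne
  obtain ⟨k, π, hπ⟩ := Module.Finite.exists_fin' R Q
  have : Module.Finite S (N ⊗[R] Q) := Module.Finite.of_surjective
    ((AlgebraTensorModule.lTensor S N π).comp (TensorProduct.piScalarRight R S N (Fin k)).symm.toLinearMap)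
    ((LinearMap.lTensor_surjective N hπ).comp (LinearEquiv.surjective _))
  obtain ⟨r, hr⟩ := ((I.map (algebraMap R S)).mem_iInf_smul_pow_eq_bot_iff x).mp
    (Submodule.mem_iInf _ |>.mpr fun n => restrict_pow_smul_le I n (hx n))
  obtain ⟨P, hP, hle⟩ := exists_le_isAssociatedPrime_of_isNoetherianRing S x hne
  refine h P hP (Ideal.eq_top_iff_one _ |>.mpr ?_)
  have h1 : (1 - (r : S)) ∈ P := hle (by
    rw [Submodule.mem_colon_singleton, Submodule.mem_bot, sub_smul, one_smul, hr, sub_self])
  rw [show (1 : S) = (r : S) + (1 - r) by ring]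
  exact add_mem (Ideal.mem_sup_left r.2) (Ideal.mem_sup_right h1)

theorem univInj_completion [IsNoetherianRing S] [Module.Finite S N]
    (h : ∀ (Q : Type u) [AddCommGroup Q] [Module R Q], Module.Finite R Q →
      ∀ q ∈ associatedPrimes S (N ⊗[R] Q), I.map (algebraMap R S) ⊔ q ≠ ⊤) :
    FlatCA.UnivInj R (AdicCompletion.of I N) := by
  intro Q _ _
  rw [injective_iff_map_eq_zero]
  intro z hz
  obtain ⟨P, hP, y, rfl⟩ := Submodule.exists_fg_le_eq_rTensor_subtype z
  rw [← LinearMap.comp_apply, LinearMap.lTensor_comp_rTensor, ← LinearMap.rTensor_comp_lTensor,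
    LinearMap.comp_apply] at hz
  obtain ⟨P₁, hle, hP₁, hy⟩ := TensorProduct.eq_zero_of_fg_of_subtype_eq_zero hP hz
  rw [← LinearMap.comp_apply, LinearMap.rTensor_comp_lTensor, ← LinearMap.lTensor_comp_rTensor,
    LinearMap.comp_apply] at hy
  suffices h0 : (Submodule.inclusion hle).rTensor N y = 0 by
    have h1 : P.subtype = P₁.subtype ∘ₗ Submodule.inclusion hle := rfl
    rw [h1, LinearMap.rTensor_comp, LinearMap.comp_apply, h0, map_zero]
  have : Module.Finite R P₁ := Module.Finite.iff_fg.mpr hP₁
  generalize (Submodule.inclusion hle).rTensor N y = v at hy ⊢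
  refine (TensorProduct.comm R P₁ N).map_eq_zero_iff.mp
    (eq_zero_of_mem_iInf I N (h P₁ ‹_›) _ fun n => ?_)
  let ev : AdicCompletion I N →ₗ[R] N ⧸ (I ^ n • ⊤ : Submodule R N) := AdicCompletion.eval I N n
  have hq : (I ^ n • ⊤ : Submodule R N).mkQ.lTensor P₁ v = 0 := by
    rw [← AdicCompletion.eval_comp_of, LinearMap.lTensor_comp, LinearMap.comp_apply, hy, map_zero]
  obtain ⟨w, hw⟩ := ((lTensor_exact P₁ (LinearMap.exact_subtype_mkQ _) (Submodule.mkQ_surjective _)) v).mp hq
  rw [← hw]
  clear hw hq hy
  induction w using TensorProduct.induction_on with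
  | zero => simp only [map_zero]; exact Submodule.zero_mem _
  | tmul a m =>
    rw [LinearMap.lTensor_tmul, TensorProduct.comm_tmul]
    show m.1 ⊗ₜ[R] a ∈ _
    refine Submodule.smul_induction_on m.2 (fun r hr u _ => ?_) fun u u' hu hu' => ?_
    · rw [← smul_tmul']
      exact Submodule.smul_mem_smul hr trivial
    · rw [add_tmul]
      exact add_mem hu hu'
  | add a b ha hb => simp only [map_add]; exact add_mem ha hb

/-- An associated prime of `N ⊗ Q`, for `N` flat, is an associated point of its fibre. -/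
theorem fiberIdeal_mem_ass_of_tensor [IsNoetherianRing R] [Module.Flat R N]
    {Q : Type u} [AddCommGroup Q] [Module R Q] (hQ : Module.Finite R Q) :
    ∀ q ∈ associatedPrimes S (N ⊗[R] Q), ∃ (p : Ideal R) (_ : p.IsPrime) (_ : q.IsPrime) (_ : q.LiesOver p),
      FlatCA.fiberIdeal p q ∈ associatedPrimes (p.Fiber S) (FlatCA.fiberMod p S N) := by
  induction hQ using IsNoetherianRing.induction_on_isQuotientEquivQuotientPrime R with
  | subsingleton Q =>
    intro q hq
    have : Subsingleton (N ⊗[R] Q) := inferInstance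
    exact absurd hq (by rw [associatedPrimes.eq_empty_of_subsingleton]; exact Set.notMem_empty q)
  | quotient Q p' e =>
    intro q hq
    have := p'.2
    let E := AlgebraTensorModule.congr (LinearEquiv.refl S N) e
    obtain ⟨hqp, y, hy⟩ := associatedPrimes.subset_of_injective (f := E.toLinearMap) E.injective hq
    have hy' : ∀ b : S, b ∈ q ↔ ∃ k : ℕ, b ^ k • y = 0 := fun b => by
      rw [hy]
      simp only [Ideal.mem_radical_iff, Submodule.mem_colon_singleton, Submodule.mem_bot]
    have hsmul : ∀ (a : R) (v : N ⊗[R] (R ⧸ p'.1)), algebraMap R S a • v = a • v := fun a v => algebraMap_smul S a v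
    let ψ : R ⧸ p'.1 →ₗ[R] p'.1.ResidueField := Submodule.liftQ p'.1 (Algebra.linearMap R p'.1.ResidueField)
      fun a ha => Ideal.algebraMap_residueField_eq_zero.mpr ha
    have hψ : Function.Injective ψ := by
      rw [injective_iff_map_eq_zero]
      intro a ha
      obtain ⟨a, rfl⟩ := Submodule.mkQ_surjective p'.1 a
      exact (Submodule.Quotient.mk_eq_zero p'.1).mpr (Ideal.algebraMap_residueField_eq_zero.mp ha)
    have hover : q.LiesOver p'.1 := by
      refine ⟨SetLike.ext fun a => ⟨fun ha => (hy' _).mpr ⟨1, ?_⟩, fun ha => ?_⟩⟩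
      · rw [pow_one, hsmul]
        clear hy hy'
        induction y using TensorProduct.induction_on with
        | zero => exact smul_zero a
        | tmul m r =>
          obtain ⟨r, rfl⟩ := Submodule.mkQ_surjective p'.1 r
          rw [← tmul_smul, ← map_smul,
            show p'.1.mkQ (a • r) = 0 from (Submodule.Quotient.mk_eq_zero _).mpr (p'.1.mul_mem_right r ha), tmul_zero]
        | add u v hu hv => rw [smul_add, hu, hv, add_zero]
      · by_contra hap
        obtain ⟨k, hk⟩ := (hy' _).mp ha
        rw [← map_pow, hsmul] at hk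
        let μ : R ⧸ p'.1 →ₗ[R] R ⧸ p'.1 := LinearMap.lsmul R (R ⧸ p'.1) (a ^ k)
        have hμ : Function.Injective μ := by
          rw [injective_iff_map_eq_zero]
          intro c hc
          obtain ⟨c, rfl⟩ := Submodule.mkQ_surjective p'.1 c
          change a ^ k • p'.1.mkQ c = 0 at hc
          rw [← map_smul] at hc
          exact (Submodule.Quotient.mk_eq_zero p'.1).mpr
            ((p'.2.mem_or_mem ((Submodule.Quotient.mk_eq_zero p'.1).mp hc)).resolve_left
              fun h => hap (p'.2.mem_of_pow_mem k h))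
        have hy0 : y = 0 := Module.Flat.lTensor_preserves_injective_linearMap (M := N) μ hμ (by
          rw [map_zero, show μ = a ^ k • LinearMap.id from LinearMap.ext fun _ => rfl,
            LinearMap.lTensor_smul, LinearMap.smul_apply, LinearMap.lTensor_id, LinearMap.id_apply, hk])
        exact hqp.ne_top (Ideal.eq_top_iff_one _ |>.mpr ((hy' 1).mpr ⟨0, by rw [hy0, smul_zero]⟩))
    refine ⟨p'.1, p'.2, hqp, hover, (Groth.Agent.FlatMor67.PurePush.ass_fiber_iff p'.1 q).mpr
      ⟨AlgebraTensorModule.lTensor S N ψ y, fun b => (hy' b).trans ⟨?_, ?_⟩⟩⟩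
    · rintro ⟨k, hk⟩
      exact ⟨k, by rw [← map_smul, hk, map_zero]⟩
    · rintro ⟨k, hk⟩
      rw [← map_smul] at hk
      exact ⟨k, Module.Flat.lTensor_preserves_injective_linearMap (M := N) ψ hψ (hk.trans (map_zero _).symm)⟩
  | exact Q₁ Q₂ Q₃ f g hf _ hfg h₁ h₃ =>
    intro q hq
    have hinj : Function.Injective (AlgebraTensorModule.lTensor S N f) :=
      Module.Flat.lTensor_preserves_injective_linearMap f hf
    have hex : Function.Exact (AlgebraTensorModule.lTensor S N f) (AlgebraTensorModule.lTensor S N g) :=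
      Module.Flat.lTensor_exact N hfg
    rcases associatedPrimes.subset_union_of_exact hinj hex hq with h | h
    exacts [h₁ q h, h₃ q h]

theorem univInj_completion_of_flat [IsNoetherianRing R] [IsNoetherianRing S] [Module.Finite S N] [Module.Flat R N]
    (h : ∀ (p : Ideal R) (q : Ideal S) [p.IsPrime] [q.IsPrime] [q.LiesOver p],
      FlatCA.fiberIdeal p q ∈ associatedPrimes (p.Fiber S) (FlatCA.fiberMod p S N) →
        I.map (algebraMap R S) ⊔ q ≠ ⊤) :
    FlatCA.UnivInj R (AdicCompletion.of I N) :=
  univInj_completion I N fun _ _ _ hQ q hq => by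
    obtain ⟨p, _, _, _, hass⟩ := fiberIdeal_mem_ass_of_tensor (S := S) N hQ q hq
    exact h p q hass

end Groth.Agent.FlatCrit65
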