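import Groth.Prelude.Def_FlatCA
import Groth.Agent.Fit14.Props
import Mathlib.RingTheory.Etale.Basic
import Mathlib.RingTheory.Unramified.Basic
import Mathlib.RingTheory.Idempotents
import Mathlib.RingTheory.Finiteness.ModuleFinitePresentation
import Mathlib.RingTheory.Localization.Away.Basic
import Mathlib.RingTheory.TensorProduct.Quotient

/-!
# The Fitting ideal of a finite quotient on the étale part
-/

universe u

noncomputable section

open TensorProduct Matrix

namespace Groth.Agent.FlatCrit65

open Fit14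

theorem fittingZero_eq (R : Type u) [CommRing R] (M : Type u) [AddCommGroup M] [Module R M] :
    FlatCA.fittingZero R M = Fitt.ideal R M 0 := by
  refine congrArg Ideal.span (Set.ext fun d => ?_)
  constructor
  · rintro ⟨n, x, a, hx, ha, rfl⟩
    exact ⟨n, x, a, hx, fun i _ => ha i, rfl⟩
  · rintro ⟨n, x, a, hx, ha, rfl⟩
    exact ⟨n, x, a, hx, fun i => ha i (by simp), rfl⟩

/-- The Fitting ideal of a product with a cyclic module. -/
theorem fitting_quotient_prod {T N : Type u} [CommRing T] [AddCommGroup N] [Module T N] [Module.Finite T N]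
    (J : Ideal T) : Fitt.ideal T ((T ⧸ J) × N) 0 = J * Fitt.ideal T N 0 := by
  classical
  obtain ⟨n, y, hy⟩ := exists_gens T N
  let x : Fin (n + 1) → (T ⧸ J) × N :=
    Fin.cons ((Ideal.Quotient.mk J 1, 0) : (T ⧸ J) × N) (fun i => ((0 : T ⧸ J), y i))
  let S : Set (Fin (n + 1) → T) :=
    (fun j => Fin.cons j 0) '' (J : Set T) ∪ (fun z => Fin.cons (0 : T) z) '' (rels (R := T) y : Set (Fin n → T))
  have hx : Submodule.span T (Set.range x) = ⊤ := by
    rw [eq_top_iff]
    rintro ⟨t, v⟩ -
    obtain ⟨t, rfl⟩ := Ideal.Quotient.mk_surjective t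
    have hv : v ∈ Submodule.span T (Set.range y) := by rw [hy]; trivial
    rw [Submodule.mem_span_range_iff_exists_fun] at hv ⊢
    obtain ⟨c, hc⟩ := hv
    refine ⟨Fin.cons t c, ?_⟩
    rw [Fin.sum_univ_succ]
    simp only [x, Fin.cons_zero, Fin.cons_succ, Prod.smul_mk, smul_zero]
    refine Prod.ext ?_ ?_
    · simp [Algebra.smul_def, Prod.fst_sum]
    · simp [Prod.snd_sum, hc]
  have hS : Submodule.span T S = rels x := by
    refine le_antisymm (Submodule.span_le.mpr ?_) fun v hv => ?_
    · rintro v (⟨j, hj, rfl⟩ | ⟨z, hz, rfl⟩)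
      · rw [SetLike.mem_coe, mem_rels, Fin.sum_univ_succ]
        simp only [x, Fin.cons_zero, Fin.cons_succ, Pi.zero_apply, zero_smul, Finset.sum_const_zero, add_zero]
        refine Prod.ext ?_ (smul_zero j)
        show j • Ideal.Quotient.mk J 1 = 0
        rw [Algebra.smul_def, Ideal.Quotient.algebraMap_eq, ← map_mul, mul_one]
        exact Ideal.Quotient.eq_zero_iff_mem.mpr hj
      · rw [SetLike.mem_coe, mem_rels, Fin.sum_univ_succ]
        simp only [x, Fin.cons_zero, Fin.cons_succ, zero_smul, zero_add]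
        refine Prod.ext ?_ ?_
        · simp [Prod.fst_sum]
        · simpa [Prod.snd_sum] using mem_rels.mp hz
    · rw [mem_rels, Fin.sum_univ_succ] at hv
      simp only [x, Fin.cons_zero, Fin.cons_succ] at hv
      have h1 : v 0 • Ideal.Quotient.mk J 1 = 0 := by simpa [Prod.fst_sum] using congrArg Prod.fst hv
      have h2 : (fun i => v i.succ) ∈ rels (R := T) y :=
        mem_rels.mpr (by simpa [Prod.snd_sum] using congrArg Prod.snd hv)
      rw [Algebra.smul_def, Ideal.Quotient.algebraMap_eq, ← map_mul, mul_one, Ideal.Quotient.eq_zero_iff_mem] at h1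
      have hv' : v = Fin.cons (v 0) 0 + Fin.cons (0 : T) (fun i => v i.succ) := by
        funext i
        cases i using Fin.cases <;> simp
      rw [hv']
      exact add_mem (Submodule.subset_span (Or.inl ⟨_, h1, rfl⟩)) (Submodule.subset_span (Or.inr ⟨_, h2, rfl⟩))
  rw [ideal_eq_minors_of_span x hx hS, ideal_eq_minors_of_span y hy (Submodule.span_eq _), Nat.sub_zero,
    Nat.sub_zero, ← dets_eq_minors _ le_rfl, ← dets_eq_minors _ le_rfl]
  apply le_antisymm
  · refine Ideal.span_le.mpr ?_
    rintro d ⟨a, s, hs, ha, rfl⟩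
    have hall : ∀ i, a i ∈ S := fun i =>
      ha i (by rw [Finset.eq_univ_of_card s (le_antisymm (Finset.card_le_univ s) (by simpa using hs))]; simp)
    rw [SetLike.mem_coe, det_succ_column_zero]
    refine sum_mem fun i _ => ?_
    rw [mul_assoc]
    refine Ideal.mul_mem_left _ _ ?_
    have hcase : a i 0 ∈ J ∧ (a i 0 ≠ 0 → ∀ l, a i (Fin.succ l) = 0) := by
      rcases hall i with ⟨j, hj, e⟩ | ⟨z, hz, e⟩
      · rw [← e]; exact ⟨hj, fun _ l => rfl⟩
      · rw [← e]; exact ⟨J.zero_mem, fun h => (h rfl).elim⟩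
    by_cases hex : ∃ k, ∀ l, a (i.succAbove k) (Fin.succ l) = 0
    · obtain ⟨k, hk⟩ := hex
      rw [det_eq_zero_of_row_eq_zero k fun l => hk l, mul_zero]
      exact Ideal.zero_mem _
    · push Not at hex
      refine Ideal.mul_mem_mul hcase.1 (Ideal.subset_span ⟨_, Finset.univ, by simp, fun k _ => ?_, rfl⟩)
      rcases hall (i.succAbove k) with ⟨j, -, e⟩ | ⟨z, hz, e⟩
      · obtain ⟨l, hl⟩ := hex k
        exact absurd (by rw [← e]; rfl) hl
      · show (fun l => a (i.succAbove k) (Fin.succ l)) ∈ _
        rw [← e]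
        exact hz
  · rw [dets, dets, Ideal.mul_comm, Ideal.mul_le]
    intro d hd j hj
    refine Submodule.span_induction ?_ (by simp) (fun u v _ _ hu hv => by rw [add_mul]; exact add_mem hu hv)
      (fun c u _ hu => by rw [smul_eq_mul, mul_assoc]; exact Ideal.mul_mem_left _ c hu) hd
    rintro d ⟨a, s, hs, ha, rfl⟩
    have hall : ∀ i, a i ∈ (rels (R := T) y : Set (Fin n → T)) := fun i =>
      ha i (by rw [Finset.eq_univ_of_card s (le_antisymm (Finset.card_le_univ s) (by simpa using hs))]; simp)
    refine Ideal.subset_span ⟨Matrix.of (Fin.cons (Fin.cons j 0 : Fin (n + 1) → T) fun i => Fin.cons (0 : T) (a i)),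
      Finset.univ, by simp, fun i _ => ?_, ?_⟩
    · cases i using Fin.cases with
      | zero => exact Or.inl ⟨j, hj, rfl⟩
      | succ i => exact Or.inr ⟨a i, hall i, rfl⟩
    · rw [det_succ_column_zero, Fin.sum_univ_succ]
      simp [Matrix.submatrix, mul_comm]
      exact congrArg (j * ·) (congrArg Matrix.det (Matrix.ext fun _ _ => rfl))

set_option maxHeartbeats 1000000 in -- one long construction
/-- On the étale part the Fitting ideal of a quotient is divisible by the ideal. -/
theorem exists_fittingZero_eq_mul {A C : Type u} [CommRing A] [CommRing C] [Algebra A C] [Module.Finite A C]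
    [Module.Projective A C] (h : C) [Algebra.Etale A (Localization.Away h)] (J : Ideal C) :
    ∃ J' : Ideal (Localization.Away h),
      (FlatCA.fittingZero A (C ⧸ J)).map (algebraMap A (Localization.Away h)) =
        J.map (algebraMap C (Localization.Away h)) * J' ∧
      (J.FG → (FlatCA.fittingZero A (C ⧸ J)).FG ∧ J'.FG) := by
  classical
  let T := Localization.Away h
  let P := T ⊗[A] C
  let μ : P →ₐ[T] T := Algebra.TensorProduct.lift (AlgHom.id T T) (IsScalarTower.toAlgHom A C T)
    fun _ _ => .all _ _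
  have hμ : ∀ (t : T) (c : C), μ (t ⊗ₜ c) = t * algebraMap C T c := fun t c => Algebra.TensorProduct.lift_tmul ..
  have hμT : ∀ t : T, μ (algebraMap T P t) = t := μ.commutes
  let K : Ideal P := RingHom.ker μ
  -- the diagonal is open and closed
  let ψ : P →ₐ[A] T ⊗[A] T := Algebra.TensorProduct.map (AlgHom.id A T) (IsScalarTower.toAlgHom A C T)
  let κ : Ideal (T ⊗[A] T) := KaehlerDifferential.ideal A T
  have hκ : IsIdempotentElem κ := by
    have : Subsingleton κ.Cotangent := (inferInstance : Subsingleton (KaehlerDifferential A T))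
    exact (Ideal.cotangent_subsingleton_iff κ).mp this
  have hker : ∀ x, x ∈ K → ψ x ∈ κ := by
    have : ∀ x : P, Algebra.TensorProduct.lmul' A (ψ x) = μ x := by
      intro x
      induction x using TensorProduct.induction_on with
      | zero => simp only [map_zero]
      | tmul t c =>
          rw [hμ]
          show Algebra.TensorProduct.lmul' A (t ⊗ₜ[A] algebraMap C T c) = _
          rw [Algebra.TensorProduct.lmul'_apply_tmul]
      | add a b ha hb => simp only [map_add, ha, hb]
    intro x hx
    show Algebra.TensorProduct.lmul' A (ψ x) = 0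
    rw [this]
    exact hx
  have hK : IsIdempotentElem K := by
    refine le_antisymm Ideal.mul_le_right fun x hx => ?_
    let h₂ : P := 1 ⊗ₜ h
    let _ : Algebra P (T ⊗[A] T) := ψ.toRingHom.toAlgebra
    have : IsScalarTower T P (T ⊗[A] T) := IsScalarTower.of_algebraMap_eq fun t => by
      show _ = ψ (t ⊗ₜ 1)
      rw [Algebra.TensorProduct.map_tmul, map_one]
      rfl
    have hloc : IsLocalization.Away h₂ (T ⊗[A] T) := by
      have := IsLocalization.tensorProduct_tensorProduct_right A T (Submonoid.powers h) T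
        (RingHom.ext fun c => by
          show ψ (1 ⊗ₜ c) = (1 : T) ⊗ₜ[A] algebraMap C T c
          rw [Algebra.TensorProduct.map_tmul]
          rfl)
      rwa [Submonoid.map_powers] at this
    have hψK : (K.map (algebraMap P (T ⊗[A] T)) : Ideal _) = κ := by
      refine le_antisymm (Ideal.map_le_iff_le_comap.mpr hker) fun z hz => ?_
      obtain ⟨⟨p, ⟨_, k, rfl⟩⟩, hp⟩ := IsLocalization.surj (Submonoid.powers h₂) z
      have hpK : p ∈ K := by
        show μ p = 0
        have h0 : Algebra.TensorProduct.lmul' A (ψ p) = 0 := by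
          rw [show ψ p = z * ψ (h₂ ^ k) from hp.symm, map_mul, show Algebra.TensorProduct.lmul' A z = 0 from hz,
            zero_mul]
        refine Eq.trans ?_ h0
        clear h0 hp
        induction p using TensorProduct.induction_on with
        | zero => simp only [map_zero]
        | tmul t c =>
          rw [hμ]
          show _ = Algebra.TensorProduct.lmul' A (t ⊗ₜ[A] algebraMap C T c)
          rw [Algebra.TensorProduct.lmul'_apply_tmul]
        | add a b ha hb => simp only [map_add, ha, hb]
      exact (IsLocalization.mem_map_algebraMap_iff (Submonoid.powers h₂) _).mpr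
        ⟨⟨⟨p, hpK⟩, ⟨h₂ ^ k, k, rfl⟩⟩, hp⟩
    have hx2 : algebraMap P (T ⊗[A] T) x ∈ (K * K).map (algebraMap P (T ⊗[A] T)) := by
      rw [Ideal.map_mul, hψK, hκ]
      exact hker x hx
    obtain ⟨⟨⟨y, hy⟩, ⟨_, k, rfl⟩⟩, hxy⟩ :=
      (IsLocalization.mem_map_algebraMap_iff (Submonoid.powers h₂) _).mp hx2
    rw [← map_mul] at hxy
    obtain ⟨⟨_, l, rfl⟩, hl⟩ := (IsLocalization.eq_iff_exists (Submonoid.powers h₂) _).mp hxy
    have hm : h₂ ^ (l + k) * x ∈ K * K := by
      have : h₂ ^ (l + k) * x = h₂ ^ l * y := by rw [pow_add, mul_assoc, mul_comm _ x]; exact hl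
      rw [this]
      exact Ideal.mul_mem_left _ _ hy
    obtain ⟨v, hv⟩ : ∃ v : P, v * h₂ ^ (l + k) - 1 ∈ K := by
      obtain ⟨w, hw⟩ := (IsLocalization.Away.algebraMap_isUnit (S := T) h).exists_left_inv
      refine ⟨algebraMap T P (w ^ (l + k)), ?_⟩
      show μ _ = 0
      rw [map_sub, map_mul, hμT, map_pow, map_one, hμ, one_mul, ← mul_pow, hw, one_pow, sub_self]
    rw [show x = v * (h₂ ^ (l + k) * x) - (v * h₂ ^ (l + k) - 1) * x by ring]
    exact sub_mem (Ideal.mul_mem_left _ _ hm) (Ideal.mul_mem_mul hv hx)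
  have : Module.FinitePresentation A C := Module.finitePresentation_of_projective A C
  have : Algebra.FinitePresentation A C := Algebra.FinitePresentation.of_finitePresentation A C
  have hKfg : K.FG := Algebra.FinitePresentation.ker_fG_of_surjective μ fun t => ⟨_, hμT t⟩
  obtain ⟨e, he, hKe⟩ := (Ideal.isIdempotentElem_iff_of_fg K hKfg).mp hK
  have hμe : μ e = 0 := show e ∈ K by rw [hKe]; exact Submodule.mem_span_singleton_self e
  -- the two parts
  let JP : Ideal P := J.map (Algebra.TensorProduct.includeRight : C →ₐ[A] P)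
  let JT : Ideal T := J.map (algebraMap C T)
  have hJ : JP.map μ = JT := by
    show (J.map (Algebra.TensorProduct.includeRight : C →ₐ[A] P).toRingHom).map μ.toRingHom = _
    rw [Ideal.map_map]
    congr 1
    exact RingHom.ext fun c => (hμ 1 c).trans (one_mul _)
  let L : Ideal P := JP ⊔ Ideal.span {1 - e}
  let f₁ : P →ₗ[T] (T ⧸ JT) × (P ⧸ L) :=
    LinearMap.prod ((Ideal.Quotient.mkₐ T JT).toLinearMap ∘ₗ μ.toLinearMap) (Ideal.Quotient.mkₐ T L).toLinearMap
  have hf₁ : ∀ p, f₁ p = (Ideal.Quotient.mk JT (μ p), Ideal.Quotient.mk L p) := fun _ => rfl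
  have hJP : ∀ p, f₁ p = 0 ↔ p ∈ JP := by
    intro p
    rw [hf₁, Prod.mk_eq_zero, Ideal.Quotient.eq_zero_iff_mem, Ideal.Quotient.eq_zero_iff_mem]
    refine ⟨fun ⟨h1, h2⟩ => ?_, fun hp => ⟨hJ ▸ Ideal.mem_map_of_mem μ hp, Ideal.mem_sup_left hp⟩⟩
    rw [← hJ, Ideal.mem_map_iff_of_surjective μ fun t => ⟨_, hμT t⟩] at h1
    obtain ⟨j₁, hj₁, hμj⟩ := h1
    obtain ⟨r, hr⟩ : ∃ r, r * e = p - j₁ :=
      Ideal.mem_span_singleton'.mp (by
        have hmem : p - j₁ ∈ K := by
          show μ (p - j₁) = 0
          rw [map_sub, hμj, sub_self]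
        rw [hKe] at hmem
        exact hmem)
    obtain ⟨j₂, hj₂, w, hw, hsum⟩ := Submodule.mem_sup.mp h2
    obtain ⟨r', rfl⟩ := Ideal.mem_span_singleton'.mp hw
    rw [show p = (1 - e) * j₁ + e * j₂ by linear_combination (e - 1) * hr - e * hsum - (r + r') * he.eq]
    exact add_mem (JP.mul_mem_left _ hj₁) (JP.mul_mem_left _ hj₂)
  have hsurj : Function.Surjective f₁ := by
    rintro ⟨t, z⟩
    obtain ⟨t, rfl⟩ := Ideal.Quotient.mk_surjective t
    obtain ⟨z, rfl⟩ := Ideal.Quotient.mk_surjective z
    refine ⟨(1 - e) * algebraMap T P t + e * z, Prod.ext ?_ ?_⟩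
    · show Ideal.Quotient.mk JT (μ _) = _
      rw [map_add, map_mul, map_mul, map_sub, map_one, hμe, hμT, sub_zero, one_mul, zero_mul, add_zero]
    · show Ideal.Quotient.mk L _ = _
      rw [Ideal.Quotient.eq, show (1 - e) * algebraMap T P t + e * z - z = (1 - e) * (algebraMap T P t - z) by ring]
      exact Ideal.mem_sup_right (Ideal.mul_mem_right _ _ (Ideal.mem_span_singleton_self _))
  let π : P →ₗ[T] T ⊗[A] (C ⧸ J) := AlgebraTensorModule.lTensor T T ((Ideal.Quotient.mkₐ A J).toLinearMap)
  have hπ : Function.Surjective π := LinearMap.lTensor_surjective T Ideal.Quotient.mk_surjective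
  have hkerπ : ∀ p, π p = 0 ↔ p ∈ JP := by
    intro p
    have h1 := Algebra.TensorProduct.lTensor_ker (A := T) (Ideal.Quotient.mkₐ A J) Ideal.Quotient.mk_surjective
    rw [show RingHom.ker (Ideal.Quotient.mkₐ A J) = J from Ideal.mk_ker] at h1
    have h2 : ∀ q : P, π q = Algebra.TensorProduct.map (AlgHom.id A T) (Ideal.Quotient.mkₐ A J) q := fun q => by
      induction q using TensorProduct.induction_on with
      | zero => simp only [map_zero]
      | tmul t c => rfl
      | add a b ha hb => simp only [map_add, ha, hb]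
    rw [h2, ← RingHom.mem_ker, h1]
  let e₂ : (T ⊗[A] (C ⧸ J)) ≃ₗ[T] (T ⧸ JT) × (P ⧸ L) :=
    (π.quotKerEquivOfSurjective hπ).symm.trans ((Submodule.quotEquivOfEq _ _ (Submodule.ext fun p =>
      (hkerπ p).trans (hJP p).symm)).trans (f₁.quotKerEquivOfSurjective hsurj))
  have : Module.Finite A (C ⧸ J) := Module.Finite.of_surjective (Ideal.Quotient.mkₐ A J).toLinearMap
    Ideal.Quotient.mk_surjective
  have : Module.Finite T (P ⧸ L) := Module.Finite.of_surjective (Ideal.Quotient.mkₐ T L).toLinearMap
    Ideal.Quotient.mk_surjective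
  refine ⟨Fitt.ideal T (P ⧸ L) 0, ?_, fun hfg => ?_⟩
  · rw [fittingZero_eq, ← ideal_baseChange, ideal_congr e₂, fitting_quotient_prod]
  · have hJA : (J.restrictScalars A).FG := by
      have : Module.Finite C J := Module.Finite.iff_fg.mpr hfg
      have : Module.Finite A (J.restrictScalars A) := Module.Finite.trans (R := A) C J
      exact Module.Finite.iff_fg.mp this
    have : Module.FinitePresentation A C := Module.finitePresentation_of_projective A C
    have : Module.FinitePresentation A (C ⧸ J) := Module.finitePresentation_of_surjective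
      (Ideal.Quotient.mkₐ A J).toLinearMap Ideal.Quotient.mk_surjective (by
        rw [show LinearMap.ker (Ideal.Quotient.mkₐ A J).toLinearMap = J.restrictScalars A from
          Submodule.ext fun c => Ideal.Quotient.eq_zero_iff_mem]
        exact hJA)
    refine ⟨fittingZero_eq A (C ⧸ J) ▸ fg_of_finitePresentation 0, ?_⟩
    let s : (T ⊗[A] (C ⧸ J)) →ₗ[T] (P ⧸ L) := LinearMap.snd T _ _ ∘ₗ e₂.toLinearMap
    have : Module.FinitePresentation T (P ⧸ L) := by
      refine Module.finitePresentation_of_surjective s (Prod.snd_surjective.comp e₂.surjective) ?_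
      rw [LinearMap.ker_comp, LinearMap.ker_snd, Submodule.comap_equiv_eq_map_symm]
      refine Submodule.FG.map _ ?_
      have : Module.Finite T (T ⧸ JT) := Module.Finite.of_surjective (Ideal.Quotient.mkₐ T JT).toLinearMap
        Ideal.Quotient.mk_surjective
      rw [LinearMap.range_eq_map]
      exact Submodule.FG.map _ Module.Finite.fg_top
    exact fg_of_finitePresentation 0

end Groth.Agent.FlatCrit65
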