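import Groth.Agent.FlatCrit65.HensWE
import Groth.Agent.FlatCrit65.Assassin.QuasiFinite
import Groth.Agent.Henz21.Flat
import Groth.Agent.Henz21.FaithfullyFlat

/-!
# Weakly associated primes and henselization
-/

universe u

noncomputable section

open TensorProduct IsLocalRing

namespace Groth.Agent.FlatCrit65

/-- An element killed after a flat base change is killed outside every prime which comes from above. -/
theorem exists_smul_eq_zero_of_tmul_one {S H W : Type u} [CommRing S] [CommRing H] [Algebra S H]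
    [Module.Flat S H] [AddCommGroup W] [Module S W] (Q : Ideal H) [Q.IsPrime] (w : W)
    (hw : (1 : H) ⊗ₜ[S] w = 0) : ∃ t ∉ Q.comap (algebraMap S H), t • w = 0 := by
  by_contra hne
  push Not at hne
  let J : Ideal S := LinearMap.ker (LinearMap.toSpanSingleton S W w)
  let ψ : S ⧸ J →ₗ[S] W := Submodule.liftQ J (LinearMap.toSpanSingleton S W w) le_rfl
  have hψ : Function.Injective ψ := by
    rw [injective_iff_map_eq_zero]
    intro a ha
    obtain ⟨a, rfl⟩ := Submodule.mkQ_surjective J a
    exact (Submodule.Quotient.mk_eq_zero J).mpr ha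
  have h0 : (1 : H) ⊗ₜ[S] (Ideal.Quotient.mk J 1) = 0 := by
    apply Module.Flat.lTensor_preserves_injective_linearMap (M := H) ψ hψ
    rw [map_zero, LinearMap.lTensor_tmul, show ψ (Ideal.Quotient.mk J 1) = w from one_smul S w, hw]
  have h1 := congrArg (TensorProduct.tensorQuotEquivQuotSMul H J) h0
  rw [TensorProduct.tensorQuotEquivQuotSMul_tmul_mk, map_zero, one_smul] at h1
  have h2 : (1 : H) ∈ J • (⊤ : Submodule S H) := (Submodule.Quotient.mk_eq_zero _).mp h1
  rw [Ideal.smul_top_eq_map] at h2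
  refine ‹Q.IsPrime›.one_notMem (Ideal.map_le_iff_le_comap.mpr (fun s hs => ?_) h2)
  by_contra hsq
  exact hne s hsq hs

variable {R H M : Type u} [CommRing R] [IsLocalRing R] [CommRing H] [IsLocalRing H] [Algebra R H]
  [IsLocalHom (algebraMap R H)] [AddCommGroup M] [Module R M]

omit [IsLocalHom (algebraMap R H)] in
theorem maximalIdeal_mem_weakAss_baseChange [Module.Flat R H]
    (hmax : (maximalIdeal R).map (algebraMap R H) = maximalIdeal H)
    (h : maximalIdeal R ∈ FlatCA.weakAss R M) : maximalIdeal H ∈ FlatCA.weakAss H (H ⊗[R] M) := by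
  obtain ⟨x, h1, h2⟩ := Groth.Agent.CAlg5.mem_weakAss_iff.mp h
  let z : H ⊗[R] M := 1 ⊗ₜ x
  have hz : z ≠ 0 := fun h0 => by
    obtain ⟨t, ht, htx⟩ := exists_smul_eq_zero_of_tmul_one (maximalIdeal H) x h0
    refine ht (Ideal.mem_comap.mpr ?_)
    rw [← hmax]
    exact Ideal.mem_map_of_mem _ (h1 t htx)
  refine Groth.Agent.CAlg5.mem_weakAss_iff.mpr ⟨z, fun s hs => ?_, fun r hr => ?_⟩
  · refine (mem_maximalIdeal _).mpr fun hu => hz ?_
    exact hu.smul_eq_zero.mp hs
  · have hle : (maximalIdeal R).map (algebraMap R H) ≤ (Submodule.span H {z}).annihilator.radical := by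
      rw [Ideal.map_le_iff_le_comap]
      intro a ha
      obtain ⟨s, hs, n, hn⟩ := h2 a ha
      have hsu : IsUnit s := not_not.mp fun h' => hs ((mem_maximalIdeal _).mpr h')
      rw [mul_smul] at hn
      refine ⟨n, Groth.Agent.CAlg5.mem_ann.mpr ?_⟩
      rw [← map_pow, algebraMap_smul, ← tmul_smul, hsu.smul_eq_zero.mp hn, tmul_zero]
    obtain ⟨n, hn⟩ := hle (hmax ▸ hr)
    exact ⟨1, (maximalIdeal.isMaximal H).isPrime.one_notMem, n, by
      rw [one_mul]; exact Groth.Agent.CAlg5.mem_ann.mp hn⟩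

theorem maximalIdeal_mem_weakAss_of_baseChange [Algebra.WeaklyEtale R H]
    (hrep : ∀ z : H ⊗[R] M, ∃ (S : Type u) (_ : CommRing S) (_ : Algebra R S) (_ : Algebra.Etale R S)
      (f : S →ₐ[R] H) (w : S ⊗[R] M), f.toLinearMap.rTensor M w = z)
    (h : maximalIdeal H ∈ FlatCA.weakAss H (H ⊗[R] M)) : maximalIdeal R ∈ FlatCA.weakAss R M := by
  obtain ⟨z, h1, h2⟩ := Groth.Agent.CAlg5.mem_weakAss_iff.mp h
  obtain ⟨S, _, _, _, f, w, rfl⟩ := hrep z
  let _ : Algebra S H := f.toRingHom.toAlgebra
  have : IsScalarTower R S H := IsScalarTower.of_algebraMap_eq fun a => (f.commutes a).symm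
  have : Algebra.WeaklyEtale S H := WE24.weaklyEtale_of_algHom R S H
  have hloc : (maximalIdeal H).comap (algebraMap R H) = maximalIdeal R :=
    ((local_hom_TFAE (algebraMap R H)).out 0 4).mp ‹_›
  let u := (maximalIdeal H).comap (algebraMap S H)
  have : u.LiesOver (maximalIdeal R) := ⟨by
    rw [Ideal.under_def, Ideal.comap_comap, ← IsScalarTower.algebraMap_eq]
    exact hloc.symm⟩
  let e := AlgebraTensorModule.cancelBaseChange R S H H M
  have hmap : ∀ v : S ⊗[R] M, e ((1 : H) ⊗ₜ[S] v) = f.toLinearMap.rTensor M v := by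
    intro v
    induction v using TensorProduct.induction_on with
    | zero => simp only [tmul_zero, map_zero]
    | tmul s m =>
      rw [AlgebraTensorModule.cancelBaseChange_tmul, Algebra.smul_def, mul_one]
      rfl
    | add a b ha hb => simp only [tmul_add, map_add, ha, hb]
  have hsmul : ∀ (s : S) (v : S ⊗[R] M), f.toLinearMap.rTensor M (s • v) = f s • f.toLinearMap.rTensor M v := by
    intro s v
    rw [← hmap, ← hmap, tmul_smul, ← algebraMap_smul H s ((1 : H) ⊗ₜ[S] v), map_smul]
    rfl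
  refine (mem_weakAss_quasiFinite_iff (maximalIdeal R) u).mp
    (Groth.Agent.CAlg5.mem_weakAss_iff.mpr ⟨w, fun s hs => ?_, fun b hb => ?_⟩)
  · refine h1 _ (?_ : f s • f.toLinearMap.rTensor M w = 0)
    rw [← hsmul, hs, map_zero]
  · obtain ⟨s, hs, n, hn⟩ := h2 _ hb
    have hsu : IsUnit s := not_not.mp fun h' => hs ((mem_maximalIdeal _).mpr h')
    rw [mul_smul] at hn
    have h0 : f.toLinearMap.rTensor M (b ^ n • w) = 0 := by
      rw [hsmul, map_pow]
      exact hsu.smul_eq_zero.mp hn
    obtain ⟨t, ht, htw⟩ := exists_smul_eq_zero_of_tmul_one (maximalIdeal H) (b ^ n • w)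
      (e.map_eq_zero_iff.mp ((hmap _).trans h0))
    exact ⟨t, ht, n, by rw [mul_smul]; exact htw⟩

omit [IsLocalRing R] in
theorem exists_etale_rep {K : Type u} [CommRing K] [Algebra R K] (H : Type u) [CommRing H] [Algebra R H]
    (e : Henz21.H R K ≃ₐ[R] H) (z : H ⊗[R] M) :
    ∃ (S : Type u) (_ : CommRing S) (_ : Algebra R S) (_ : Algebra.Etale R S)
      (f : S →ₐ[R] H) (w : S ⊗[R] M), f.toLinearMap.rTensor M w = z := by
  obtain ⟨i, w, hw⟩ := Henz21.H.exists_lTensor_rep (TensorProduct.comm R _ M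
    (e.symm.toAlgHom.toLinearMap.rTensor M z))
  refine ⟨i.S, inferInstance, inferInstance, inferInstance, e.toAlgHom.comp (Henz21.H.incl i),
    TensorProduct.comm R M i.S w, ?_⟩
  have hcomm : ∀ v : M ⊗[R] i.S, (Henz21.H.incl i).toLinearMap.rTensor M (TensorProduct.comm R M i.S v) =
      TensorProduct.comm R M _ ((Henz21.H.incl i).toLinearMap.lTensor M v) := fun v => by
    induction v using TensorProduct.induction_on with
    | zero => simp only [map_zero]
    | tmul m s => rfl
    | add a b ha hb => simp only [map_add, ha, hb]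
  rw [AlgHom.comp_toLinearMap, LinearMap.rTensor_comp_apply, hcomm, hw, ← TensorProduct.comm_symm,
    LinearEquiv.symm_apply_apply, ← LinearMap.rTensor_comp_apply]
  have hid : e.toAlgHom.toLinearMap ∘ₗ e.symm.toAlgHom.toLinearMap = LinearMap.id :=
    LinearMap.ext fun x => e.apply_symm_apply x
  rw [hid, LinearMap.rTensor_id, LinearMap.id_apply]

end Groth.Agent.FlatCrit65
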