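import Groth.Agent.FlatCrit65.Closed.Above
import Mathlib.RingTheory.Ideal.GoingUp

/-!
# Flatness above the closed points: flat and finite changes of the source
-/

universe u

noncomputable section

open TensorProduct IsLocalRing

namespace Groth.Agent.FlatCrit65

theorem flatAboveClosedPoints_iff_flat {A B C : Type u} [CommRing A] [CommRing B] [IsLocalRing B] [CommRing C]
    [IsLocalRing C] [Algebra A B] [Algebra B C] [IsLocalHom (algebraMap B C)] [Algebra A C] [IsScalarTower A B C]
    [Module.Flat B C] (M : Type u) [AddCommGroup M] [Module B M] (N : Type u) [AddCommGroup N] [Module C N]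
    [Module B N] [IsScalarTower B C N] (g : M →ₗ[B] N) (hg : IsBaseChange C g)
    (A' : Type u) [CommRing A'] [IsLocalRing A'] [Algebra A A']
    (B' M' : Type u) [CommRing B'] [Algebra B B'] [Algebra A' B'] [Algebra A B'] [IsScalarTower A B B']
    [IsScalarTower A A' B'] [Algebra.IsPushout A B A' B'] [AddCommGroup M'] [Module B' M'] [Module B M']
    [IsScalarTower B B' M'] [Module A' M'] [IsScalarTower A' B' M'] (fB : M →ₗ[B] M') (hfB : IsBaseChange B' fB)
    (C' N' : Type u) [CommRing C'] [Algebra C C'] [Algebra A' C'] [Algebra A C'] [IsScalarTower A C C']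
    [IsScalarTower A A' C'] [Algebra.IsPushout A C A' C'] [AddCommGroup N'] [Module C' N'] [Module C N']
    [IsScalarTower C C' N'] [Module A' N'] [IsScalarTower A' C' N'] (fC : N →ₗ[C] N') (hfC : IsBaseChange C' fC) :
    FlatCA.FlatAboveClosedPoints B A' B' M' ↔ FlatCA.FlatAboveClosedPoints C A' C' N' := by
  let _ : Algebra B C' := ((algebraMap C C').comp (algebraMap B C)).toAlgebra
  have : IsScalarTower B C C' := IsScalarTower.of_algebraMap_eq fun _ => rfl
  have : IsScalarTower A B C' := IsScalarTower.of_algebraMap_eq fun a => by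
    rw [IsScalarTower.algebraMap_apply B C C', ← IsScalarTower.algebraMap_apply A B C,
      ← IsScalarTower.algebraMap_apply]
  let ω : B' →ₐ[A] C' := Algebra.pushoutDesc B' (IsScalarTower.toAlgHom A B C')
    (IsScalarTower.toAlgHom A A' C') fun _ _ => mul_comm _ _
  let _ : Algebra B' C' := ω.toRingHom.toAlgebra
  have : IsScalarTower B B' C' := IsScalarTower.of_algebraMap_eq fun b =>
    (Algebra.pushoutDesc_left B' (IsScalarTower.toAlgHom A B C') (IsScalarTower.toAlgHom A A' C')
      (fun _ _ => mul_comm _ _) b).symm
  have : IsScalarTower A' B' C' := IsScalarTower.of_algebraMap_eq fun a =>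
    (Algebra.pushoutDesc_right B' (IsScalarTower.toAlgHom A B C') (IsScalarTower.toAlgHom A A' C')
      (fun _ _ => mul_comm _ _) a).symm
  have : IsScalarTower A B' C' := IsScalarTower.of_algebraMap_eq fun a => (ω.commutes a).symm
  have hp : Algebra.IsPushout B C B' C' := (Algebra.IsPushout.comp_iff A B A' B').mp ‹_›
  have : Algebra.IsPushout B B' C C' := hp.symm
  have : Module.Flat B' C' := Module.Flat.of_linearEquiv
    (Algebra.IsPushout.equiv B B' C C').toLinearEquiv.symm
  let _ : Module B N' := Module.compHom N' (algebraMap B C')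
  let _ : Module B' N' := Module.compHom N' (algebraMap B' C')
  have : IsScalarTower B C' N' := IsScalarTower.of_algebraMap_smul fun _ _ => rfl
  have : IsScalarTower B' C' N' := IsScalarTower.of_algebraMap_smul fun _ _ => rfl
  have : IsScalarTower B C N' := IsScalarTower.of_algebraMap_smul fun b n => by
    rw [← algebraMap_smul C' (algebraMap B C b) n, ← IsScalarTower.algebraMap_apply, algebraMap_smul]
  have : IsScalarTower B B' N' := IsScalarTower.of_algebraMap_smul fun b n => by
    rw [← algebraMap_smul C' (algebraMap B B' b) n, ← IsScalarTower.algebraMap_apply, algebraMap_smul]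
  let φ : M →ₗ[B] N' := (fC.restrictScalars B).comp g
  have hφ : IsBaseChange C' φ := hg.comp hfC
  let h : M' →ₗ[B'] N' := hfB.lift φ
  have hh : IsBaseChange C' h := IsBaseChange.of_comp hfB (by
    convert hφ
    exact hfB.lift_comp φ)
  let e : C' ⊗[B'] M' ≃ₗ[C'] N' := hh.equiv
  constructor
  · intro H q _ hq
    have hq₀ : (maximalIdeal A').map (algebraMap A' B') ⊔ (maximalIdeal B).map (algebraMap B B') ≤
        q.comap (algebraMap B' C') := by
      refine sup_le ?_ ?_
      · rw [Ideal.map_le_iff_le_comap, Ideal.comap_comap, ← IsScalarTower.algebraMap_eq,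
          ← Ideal.map_le_iff_le_comap]
        exact le_sup_left.trans hq
      · rw [Ideal.map_le_iff_le_comap, Ideal.comap_comap, ← IsScalarTower.algebraMap_eq]
        intro b hb
        rw [Ideal.mem_comap, IsScalarTower.algebraMap_apply B C C']
        exact hq (Ideal.mem_sup_right (Ideal.mem_map_of_mem _ ((mem_maximalIdeal _).mpr fun hu =>
          (mem_maximalIdeal _).mp hb (IsLocalHom.map_nonunit b hu))))
    exact flat_localized_equiv e q (flat_localized_tensor_of_flat q (H _ hq₀))
  · intro H q₀ _ hq₀
    obtain ⟨q, _, hcomap, hqC⟩ := exists_closed_point_above (C := C) (C' := C') q₀ (le_sup_right.trans hq₀)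
    have hq : (maximalIdeal A').map (algebraMap A' C') ⊔ (maximalIdeal C).map (algebraMap C C') ≤ q := by
      refine sup_le ?_ hqC
      rw [IsScalarTower.algebraMap_eq A' B' C', ← Ideal.map_map, Ideal.map_le_iff_le_comap, hcomap]
      exact le_sup_left.trans hq₀
    have := flat_localized_of_flat_tensor q (flat_localized_equiv e.symm q (H q hq))
    subst hcomap
    exact this

section Finite

variable {A' B' C' N : Type u} [CommRing A'] [CommRing B'] [CommRing C'] [Algebra A' B'] [Algebra B' C']
  [Algebra A' C'] [IsScalarTower A' B' C'] [AddCommGroup N] [Module B' N] [Module C' N] [Module A' N]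
  [IsScalarTower B' C' N] [IsScalarTower A' C' N] [IsScalarTower A' B' N]

omit [IsScalarTower A' B' C'] in
theorem flat_localized_of_comap (q : Ideal C') [q.IsPrime]
    (h : Module.Flat A' (LocalizedModule (q.comap (algebraMap B' C')).primeCompl N)) :
    Module.Flat A' (LocalizedModule q.primeCompl N) := by
  refine (flat_localized_iff_kernels q).mpr fun I z hz => ?_
  obtain ⟨s, hs, hsz⟩ := (flat_localized_iff_kernels (q.comap (algebraMap B' C'))).mp h I z hz
  exact ⟨algebraMap B' C' s, hs, by rw [algebraMap_smul]; exact hsz⟩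

omit [IsScalarTower A' B' C'] in
theorem flat_localized_comap_of_forall_above [Algebra.IsIntegral B' C'] (q₀ : Ideal B') [q₀.IsPrime]
    (h : ∀ (q : Ideal C') [q.IsPrime], q.comap (algebraMap B' C') = q₀ →
      Module.Flat A' (LocalizedModule q.primeCompl N)) :
    Module.Flat A' (LocalizedModule q₀.primeCompl N) := by
  refine (flat_localized_iff_kernels q₀).mpr fun I z hz => ?_
  by_contra hne
  push Not at hne
  let J : Ideal C' := LinearMap.ker (LinearMap.toSpanSingleton C' (N ⊗[A'] I) z)
  obtain ⟨q, hJ, hq, hcomap⟩ := Ideal.exists_ideal_over_prime_of_isIntegral q₀ J fun s hs => by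
    by_contra hsq
    refine hne s hsq ?_
    rw [← algebraMap_smul C' s z]
    exact hs
  obtain ⟨t, ht, htz⟩ := (flat_localized_iff_kernels q).mp (h q hcomap) I z hz
  exact ht (hJ htz)

end Finite

theorem flatAboveClosedPoints_iff_finite {A B C : Type u} [CommRing A] [CommRing B] [IsLocalRing B] [CommRing C]
    [IsLocalRing C] [Algebra A B] [Algebra B C] [IsLocalHom (algebraMap B C)] [Algebra A C] [IsScalarTower A B C]
    [Module.Finite B C] (N : Type u) [AddCommGroup N] [Module C N]
    [Module B N] [IsScalarTower B C N]
    (A' : Type u) [CommRing A'] [IsLocalRing A'] [Algebra A A']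
    (B' M' : Type u) [CommRing B'] [Algebra B B'] [Algebra A' B'] [Algebra A B'] [IsScalarTower A B B']
    [IsScalarTower A A' B'] [Algebra.IsPushout A B A' B'] [AddCommGroup M'] [Module B' M'] [Module B M']
    [IsScalarTower B B' M'] [Module A' M'] [IsScalarTower A' B' M'] (fB : N →ₗ[B] M') (hfB : IsBaseChange B' fB)
    (C' N' : Type u) [CommRing C'] [Algebra C C'] [Algebra A' C'] [Algebra A C'] [IsScalarTower A C C']
    [IsScalarTower A A' C'] [Algebra.IsPushout A C A' C'] [AddCommGroup N'] [Module C' N'] [Module C N']
    [IsScalarTower C C' N'] [Module A' N'] [IsScalarTower A' C' N'] (fC : N →ₗ[C] N') (hfC : IsBaseChange C' fC) :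
    FlatCA.FlatAboveClosedPoints B A' B' M' ↔ FlatCA.FlatAboveClosedPoints C A' C' N' := by
  let _ : Algebra B C' := ((algebraMap C C').comp (algebraMap B C)).toAlgebra
  have : IsScalarTower B C C' := IsScalarTower.of_algebraMap_eq fun _ => rfl
  have : IsScalarTower A B C' := IsScalarTower.of_algebraMap_eq fun a => by
    rw [IsScalarTower.algebraMap_apply B C C', ← IsScalarTower.algebraMap_apply A B C,
      ← IsScalarTower.algebraMap_apply]
  let ω : B' →ₐ[A] C' := Algebra.pushoutDesc B' (IsScalarTower.toAlgHom A B C')
    (IsScalarTower.toAlgHom A A' C') fun _ _ => mul_comm _ _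
  let _ : Algebra B' C' := ω.toRingHom.toAlgebra
  have : IsScalarTower B B' C' := IsScalarTower.of_algebraMap_eq fun b =>
    (Algebra.pushoutDesc_left B' (IsScalarTower.toAlgHom A B C') (IsScalarTower.toAlgHom A A' C')
      (fun _ _ => mul_comm _ _) b).symm
  have : IsScalarTower A' B' C' := IsScalarTower.of_algebraMap_eq fun a =>
    (Algebra.pushoutDesc_right B' (IsScalarTower.toAlgHom A B C') (IsScalarTower.toAlgHom A A' C')
      (fun _ _ => mul_comm _ _) a).symm
  have : IsScalarTower A B' C' := IsScalarTower.of_algebraMap_eq fun a => (ω.commutes a).symm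
  have hp : Algebra.IsPushout B C B' C' := (Algebra.IsPushout.comp_iff A B A' B').mp ‹_›
  have : Algebra.IsPushout B B' C C' := hp.symm
  have : Module.Finite B' C' := Module.Finite.equiv (Algebra.IsPushout.equiv B B' C C').toLinearEquiv
  have : Algebra.IsIntegral B' C' := Algebra.IsIntegral.of_finite B' C'
  let _ : Module B N' := Module.compHom N' (algebraMap B C')
  let _ : Module B' N' := Module.compHom N' (algebraMap B' C')
  have : IsScalarTower B C' N' := IsScalarTower.of_algebraMap_smul fun _ _ => rfl
  have : IsScalarTower B' C' N' := IsScalarTower.of_algebraMap_smul fun _ _ => rfl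
  have : IsScalarTower B C N' := IsScalarTower.of_algebraMap_smul fun b n => by
    rw [← algebraMap_smul C' (algebraMap B C b) n, ← IsScalarTower.algebraMap_apply, algebraMap_smul]
  have : IsScalarTower B B' N' := IsScalarTower.of_algebraMap_smul fun b n => by
    rw [← algebraMap_smul C' (algebraMap B B' b) n, ← IsScalarTower.algebraMap_apply, algebraMap_smul]
  have : IsScalarTower A' B' N' := IsScalarTower.of_algebraMap_smul fun a n => by
    rw [← algebraMap_smul C' (algebraMap A' B' a) n, ← IsScalarTower.algebraMap_apply, algebraMap_smul]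
  have hN : IsBaseChange B' (fC.restrictScalars B) :=
    IsBaseChange.of_equiv ((Algebra.IsPushout.cancelBaseChange B B' C C' N).symm.trans
      (hfC.equiv.restrictScalars B')) fun x => by
      rw [LinearEquiv.trans_apply, Algebra.IsPushout.cancelBaseChange_symm_tmul, LinearEquiv.restrictScalars_apply,
        hfC.equiv_tmul, map_one, one_smul]
      rfl
  let e : M' ≃ₗ[B'] N' := hfB.equiv.symm.trans hN.equiv
  constructor
  · intro H q _ hq
    have hq₀ : (maximalIdeal A').map (algebraMap A' B') ⊔ (maximalIdeal B).map (algebraMap B B') ≤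
        q.comap (algebraMap B' C') := by
      refine sup_le ?_ ?_
      · rw [Ideal.map_le_iff_le_comap, Ideal.comap_comap, ← IsScalarTower.algebraMap_eq,
          ← Ideal.map_le_iff_le_comap]
        exact le_sup_left.trans hq
      · rw [Ideal.map_le_iff_le_comap, Ideal.comap_comap, ← IsScalarTower.algebraMap_eq]
        intro b hb
        rw [Ideal.mem_comap, IsScalarTower.algebraMap_apply B C C']
        exact hq (Ideal.mem_sup_right (Ideal.mem_map_of_mem _ ((mem_maximalIdeal _).mpr fun hu =>
          (mem_maximalIdeal _).mp hb (IsLocalHom.map_nonunit b hu))))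
    exact flat_localized_of_comap (B' := B') q (flat_localized_equiv e _ (H _ hq₀))
  · intro H q₀ _ hq₀
    refine flat_localized_equiv e.symm q₀ (flat_localized_comap_of_forall_above (C' := C') q₀ fun q _ hcomap => ?_)
    refine H q (sup_le ?_ ?_)
    · rw [IsScalarTower.algebraMap_eq A' B' C', ← Ideal.map_map, Ideal.map_le_iff_le_comap, hcomap]
      exact le_sup_left.trans hq₀
    · rw [Ideal.map_le_iff_le_comap]
      have : Algebra.IsIntegral B C := Algebra.IsIntegral.of_finite B C
      let Q := q.comap (algebraMap C C')
      have hQ : maximalIdeal B ≤ Q.comap (algebraMap B C) := by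
        intro b hb
        rw [Ideal.mem_comap, Ideal.mem_comap, ← IsScalarTower.algebraMap_apply,
          IsScalarTower.algebraMap_apply B B' C', ← Ideal.mem_comap, hcomap]
        exact hq₀ (Ideal.mem_sup_right (Ideal.mem_map_of_mem _ hb))
      have hQmax : Q.IsMaximal := by
        refine Ideal.isMaximal_of_isIntegral_of_isMaximal_comap (R := B) Q ?_
        rw [← (IsLocalRing.maximalIdeal.isMaximal B).eq_of_le (Ideal.IsPrime.ne_top inferInstance) hQ]
        infer_instance
      exact (IsLocalRing.eq_maximalIdeal hQmax).ge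

end Groth.Agent.FlatCrit65
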